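import Groth.Agent.EtTransferLib.PointPushH
import Groth.Agent.EtSliceLib.MV
import Groth.Agent.S13499
import Groth.Agent.S0626
import Groth.Agent.CurveVBLib.Integral

/-!
# Rational cohomology of normal noetherian schemes
-/

set_option autoImplicit false
set_option linter.unusedSectionVars false
set_option linter.style.haveILetI false
set_option backward.isDefEq.respectTransparency false
set_option backward.isDefEq.respectTransparency.types false
set_option synthInstance.maxHeartbeats 400000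
set_option maxHeartbeats 1000000

universe u

open CategoryTheory CategoryTheory.Limits CategoryTheory.Abelian AlgebraicGeometry Opposite
open Groth.Agent.EtShLib EtSliceLib EtTransferLib

namespace EtRatLib

noncomputable section

variable {X : Scheme.{u}}

theorem isIso_nsmul_const (X : Scheme.{u}) (n : ℕ) (hn : 0 < n) : IsIso (n • 𝟙 (EtCoh.const X ℚ)) := by
  let F := constantSheaf X.smallEtaleTopology AddCommGrpCat.{u + 1}
  haveI : (EtCore.gsec X).Additive := ⟨fun {X Y f g} => rfl⟩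
  haveI : F.Additive := (EtCore.constAdj X).left_adjoint_additive
  haveI : IsIso (n • 𝟙 (AddCommGrpCat.of (ULift.{u + 1} ℚ))) := by
    rw [ConcreteCategory.isIso_iff_bijective]
    have e : ∀ x : ULift.{u + 1} ℚ, (n • 𝟙 (AddCommGrpCat.of (ULift.{u + 1} ℚ))) x = n • x := fun x => by simp
    constructor
    · intro x y h
      rw [e, e] at h
      apply ULift.ext
      have h' := congrArg ULift.down h
      simpa [hn.ne'] using h'
    · intro y
      refine ⟨⟨y.down / n⟩, (e _).trans (ULift.ext _ _ ?_)⟩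
      have hn' : (n : ℚ) ≠ 0 := Nat.cast_ne_zero.2 hn.ne'
      simp [field]
  have h2 : n • 𝟙 (EtCoh.const X ℚ) = F.map (n • 𝟙 (AddCommGrpCat.of (ULift.{u + 1} ℚ))) := by
    rw [Functor.map_nsmul, CategoryTheory.Functor.map_id]
  rw [h2]
  infer_instance

theorem isZero_of_isTorsion_of_divisible {G : EtCoh.Ab X} (h : EtCoh.IsTorsion G)
    (hdiv : ∀ n : ℕ, 0 < n → IsIso (n • 𝟙 G)) : IsZero G := by
  have key : ∀ (U : X.Etale) (s : ToType (G.obj.obj (op U))), s = 0 := fun U s => by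
    refine eq_of_germ (A := AddCommGrpCat.{u + 1}) G _ _ fun Ω _ _ ξ u => ?_
    obtain ⟨V, g, ⟨v, hv⟩, ho⟩ := h U s u.pt
    obtain ⟨m, hm, hs⟩ := isOfFinAddOrder_iff_nsmul_eq_zero.1 ho
    haveI := hdiv m hm
    haveI : IsIso ((m • 𝟙 G : G ⟶ G).hom.app (op V)) :=
      inferInstanceAs (IsIso (((sheafToPresheaf _ _).map (m • 𝟙 G)).app (op V)))
    have h0 : G.obj.map g.op s = 0 := by
      apply (ConcreteCategory.bijective_of_isIso ((m • 𝟙 G : G ⟶ G).hom.app (op V))).1
      rw [nsmul_id_app, nsmul_id_app, hs, nsmul_zero]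
    haveI := etale_left g
    obtain ⟨l, hl, -⟩ := Scheme.exists_fac_of_etale_of_isSepClosed g.left u.hom v hv
    let a : Fib ξ V := Fib.mk l (by rw [← MorphismProperty.Over.w g, ← Category.assoc, hl, Fib.w])
    have ha : a.map g = u := Fib.ext ((Fib.map_hom g a).trans hl)
    rw [← ha, ← germ_res_apply, ← germ_res_apply, h0, map_zero, map_zero, map_zero]
  rw [IsZero.iff_id_eq_zero]
  refine ObjectProperty.hom_ext _ (NatTrans.ext (funext fun U => AddCommGrpCat.ext fun s => ?_))
  exact (key U.unop _).trans (key U.unop _).symm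

theorem subsingleton_H_rat_integral (X : Scheme.{u}) [IsIntegral X] [CompactSpace ↥X] [QuasiSeparatedSpace ↥X]
    (hN : ∀ x : X, IsIntegrallyClosed (X.presheaf.stalk x)) (i : ℕ) (hi : 0 < i) :
    Subsingleton (EtCoh.H X (EtCoh.const X ℚ) i) := by
  let K := X.functionField
  let g : Spec (CommRingCat.of K) ⟶ X := X.fromSpecStalk (genericPoint X)
  haveI : IsPreimmersion g := inferInstanceAs (IsPreimmersion (X.fromSpecStalk (genericPoint X)))
  haveI : CompactSpace ↥(Spec (CommRingCat.of K)) := inferInstance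
  haveI : QuasiCompact g := inferInstance
  haveI : QuasiSeparated g := inferInstance
  haveI : (EtCoh.push g).Additive := { }
  let F := (EtCoh.pull g).obj (EtCoh.const X ℚ)
  have hF : ∀ n : ℕ, 0 < n → IsIso (n • 𝟙 F) := fun n hn => by
    haveI := isIso_nsmul_const X n hn
    rw [show n • 𝟙 F = (EtCoh.pull g).map (n • 𝟙 (EtCoh.const X ℚ)) by
      rw [Functor.map_nsmul, CategoryTheory.Functor.map_id]]
    infer_instance
  have hR : ∀ q : ℕ, 0 < q → IsZero ((EtCoh.Rpush g q).obj F) := fun q hq => by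
    obtain ⟨p, rfl⟩ : ∃ p, q = p + 1 := ⟨q - 1, by omega⟩
    refine isZero_of_isTorsion_of_divisible (isTorsion_Rpush_point g F p) fun n hn => ?_
    haveI := hF n hn
    rw [show n • 𝟙 ((EtCoh.Rpush g (p + 1)).obj F) = (EtCoh.Rpush g (p + 1)).map (n • 𝟙 F) by
      rw [Functor.map_nsmul, CategoryTheory.Functor.map_id]]
    infer_instance
  haveI : Subsingleton (EtCoh.H (Spec (CommRingCat.of K)) F i) := Groth.Agent.S7744.result K F hF i hi
  haveI hs : Subsingleton (EtCoh.H X ((EtCoh.push g).obj F) i) :=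
    ⟨fun a b => (Groth.Agent.S14451.result g F hR i).1 (Subsingleton.elim _ _)⟩
  haveI := Groth.Agent.S0626.result X hN ℚ
  let e : EtCoh.const X ℚ ≅ (EtCoh.push g).obj F := asIso ((EtCoh.pullPushAdj g).unit.app (EtCoh.const X ℚ))
  refine subsingleton_of_forall_eq 0 fun x => ?_
  have h : x.comp (Ext.mk₀ e.hom) (add_zero i) = 0 :=
    Subsingleton.elim (α := EtCoh.H X ((EtCoh.push g).obj F) i) _ 0
  have h' := congrArg (fun z => Ext.comp z (Ext.mk₀ e.inv) (add_zero i)) h
  rwa [Ext.comp_assoc_of_third_deg_zero, Ext.mk₀_comp_mk₀, Iso.hom_inv_id, Ext.comp_mk₀_id, Ext.zero_comp] at h'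

theorem isZero_free_of_isEmpty (W : X.Etale) [IsEmpty ↥W.left] : IsZero (free W) := by
  rw [IsZero.iff_id_eq_zero]
  refine free_hom_ext W (eq_of_germ (A := AddCommGrpCat.{u + 1}) (free W) _ _ fun Ω _ _ ξ u => ?_)
  exact isEmptyElim u.pt

theorem subsingleton_H_rat_normal (X : Scheme.{u}) [IsLocallyNoetherian X] [CompactSpace ↥X]
    (hN : ∀ x : X, IsDomain (X.presheaf.stalk x) ∧ IsIntegrallyClosed (X.presheaf.stalk x))
    (i : ℕ) (hi : 0 < i) : Subsingleton (EtCoh.H X (EtCoh.const X ℚ) i) := by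
  haveI : IsNoetherian X := { }
  let P : X.Opens → X.Etale := fun U => Scheme.Etale.mk U.ι
  have hclopen : ∀ Z : TopologicalSpace.Closeds X, ∀ hZ : IsOpen (Z : Set X),
      Subsingleton (Ext.{u + 1} (free (P ⟨Z, hZ⟩)) (EtCoh.const X ℚ) i) := by
    intro Z
    induction Z using WellFoundedLT.induction with
    | _ Z ih =>
      intro hZ
      let U : X.Opens := ⟨Z, hZ⟩
      let T := P U
      rcases Set.eq_empty_or_nonempty (Z : Set X) with hE | hne
      · haveI : IsEmpty ↥T.left := ⟨fun x => (Set.eq_empty_iff_forall_notMem.1 hE) x.1 x.2⟩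
        exact ⟨fun a b => by
          have h0 : 𝟙 (free T) = 0 := (isZero_free_of_isEmpty T).eq_of_src _ _
          rw [← Ext.mk₀_id_comp a, ← Ext.mk₀_id_comp b, h0, Ext.mk₀_zero, Ext.zero_comp, Ext.zero_comp]⟩
      by_cases hc : _root_.IsPreconnected (Z : Set X)
      · haveI : ConnectedSpace ↥(U : Scheme.{u}) := Subtype.connectedSpace ⟨hne, hc⟩
        haveI : ∀ x : (U : Scheme.{u}), IsDomain ((U : Scheme.{u}).presheaf.stalk x) := fun x =>
          haveI := (hN x.1).1
          (U.stalkIso x).commRingCatIsoToRingEquiv.toMulEquiv.isDomain _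
        haveI : CompactSpace ↥(U : Scheme.{u}) :=
          isCompact_iff_compactSpace.1 (TopologicalSpace.NoetherianSpace.isCompact (Z : Set X))
        haveI : IsNoetherian (U : Scheme.{u}) := { }
        haveI : IsIntegral (U : Scheme.{u}) := CurveVBLib.isIntegral_of_connected
        have hs := subsingleton_H_rat_integral (U : Scheme.{u}) (fun x => by
          haveI := (hN x.1).2
          exact IsIntegrallyClosed.of_equiv (U.stalkIso x).symm.commRingCatIsoToRingEquiv) i hi
        refine subsingleton_of_forall_eq 0 fun y => (psi_bijective T i _).1 ?_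
        rw [map_zero]
        let e := EtCore.pullConst T.hom ℚ
        have h : (psi T (EtCoh.const X ℚ) i y).comp (Ext.mk₀ e.hom) (add_zero i) = 0 :=
          @Subsingleton.elim _ hs _ _
        have h' := congrArg (fun z => Ext.comp z (Ext.mk₀ e.inv) (add_zero i)) h
        rwa [Ext.comp_assoc_of_third_deg_zero, Ext.mk₀_comp_mk₀, Iso.hom_inv_id, Ext.comp_mk₀_id, Ext.zero_comp] at h'
      obtain ⟨a, b, ha, hb, hab, ⟨p, hp⟩, ⟨q, hq⟩, hd⟩ : ∃ a b : Set X, IsOpen a ∧ IsOpen b ∧ (Z : Set X) ⊆ a ∪ b ∧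
          ((Z : Set X) ∩ a).Nonempty ∧ ((Z : Set X) ∩ b).Nonempty ∧ (Z : Set X) ∩ (a ∩ b) = ∅ := by
        simp only [_root_.IsPreconnected, not_forall] at hc
        obtain ⟨a, b, ha, hb, hab, h1, h2, h3⟩ := hc
        exact ⟨a, b, ha, hb, hab, h1, h2, Set.not_nonempty_iff_eq_empty.1 h3⟩
      have hA : IsClosed ((Z : Set X) ∩ a) := by
        have e : (Z : Set X) ∩ a = (Z : Set X) ∩ bᶜ := Set.ext fun x => ⟨fun h => ⟨h.1, fun hxb =>
          (Set.eq_empty_iff_forall_notMem.1 hd) x ⟨h.1, h.2, hxb⟩⟩, fun h => ⟨h.1, (hab h.1).resolve_right h.2⟩⟩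
        rw [e]
        exact Z.isClosed.inter hb.isClosed_compl
      have hB : IsClosed ((Z : Set X) ∩ b) := by
        have e : (Z : Set X) ∩ b = (Z : Set X) ∩ aᶜ := Set.ext fun x => ⟨fun h => ⟨h.1, fun hxa =>
          (Set.eq_empty_iff_forall_notMem.1 hd) x ⟨h.1, hxa, h.2⟩⟩, fun h => ⟨h.1, (hab h.1).resolve_left h.2⟩⟩
        rw [e]
        exact Z.isClosed.inter ha.isClosed_compl
      let Za : TopologicalSpace.Closeds X := ⟨_, hA⟩
      let Zb : TopologicalSpace.Closeds X := ⟨_, hB⟩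
      have hla : Za < Z := lt_of_le_of_ne (fun x hx => hx.1) fun e => by
        have hqa : q ∈ (Za : Set X) := by rw [e]; exact hq.1
        exact (Set.eq_empty_iff_forall_notMem.1 hd) q ⟨hq.1, hqa.2, hq.2⟩
      have hlb : Zb < Z := lt_of_le_of_ne (fun x hx => hx.1) fun e => by
        have hpb : p ∈ (Zb : Set X) := by rw [e]; exact hp.1
        exact (Set.eq_empty_iff_forall_notMem.1 hd) p ⟨hp.1, hp.2, hpb.2⟩
      let Ua : X.Opens := ⟨Za, hZ.inter ha⟩
      let Ub : X.Opens := ⟨Zb, hZ.inter hb⟩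
      haveI sA := ih Za hla Ua.2
      haveI sB := ih Zb hlb Ub.2
      let incl : ∀ {V V' : X.Opens}, V ≤ V' → (P V ⟶ P V') := fun {V V'} h =>
        MorphismProperty.Over.homMk (X.homOfLE h) (Scheme.homOfLE_ι _ h)
      have hCe : IsEmpty ↥(P (Ua ⊓ Ub)).left := ⟨fun x =>
        (Set.eq_empty_iff_forall_notMem.1 hd) x.1 ⟨x.2.1.1, x.2.1.2, x.2.2.2⟩⟩
      let iC := incl (inf_le_left : Ua ⊓ Ub ≤ Ua)
      let jC := incl (inf_le_right : Ua ⊓ Ub ≤ Ub)
      let pa := incl (show Ua ≤ U from fun x hx => hx.1)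
      let pb := incl (show Ub ≤ U from fun x hx => hx.1)
      haveI : IsOpenImmersion iC.left := inferInstanceAs (IsOpenImmersion (X.homOfLE (inf_le_left : Ua ⊓ Ub ≤ Ua)))
      haveI : IsOpenImmersion pa.left := inferInstanceAs (IsOpenImmersion (X.homOfLE (show Ua ≤ U from fun x hx => hx.1)))
      haveI : IsOpenImmersion pb.left := inferInstanceAs (IsOpenImmersion (X.homOfLE (show Ub ≤ U from fun x hx => hx.1)))
      have w : iC ≫ pa = jC ≫ pb := MorphismProperty.Over.Hom.ext (by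
        show X.homOfLE (inf_le_left : Ua ⊓ Ub ≤ Ua) ≫ X.homOfLE (show Ua ≤ U from fun x hx => hx.1) =
          X.homOfLE (inf_le_right : Ua ⊓ Ub ≤ Ub) ≫ X.homOfLE (show Ub ≤ U from fun x hx => hx.1)
        rw [Scheme.homOfLE_homOfLE, Scheme.homOfLE_homOfLE])
      have hva : ∀ x, (pa.left.base x).1 = x.1 := fun x => congrArg (fun f => f.base x) (Scheme.homOfLE_ι X (show Ua ≤ U from fun x hx => hx.1))
      have hvb : ∀ x, (pb.left.base x).1 = x.1 := fun x => congrArg (fun f => f.base x) (Scheme.homOfLE_ι X (show Ub ≤ U from fun x hx => hx.1))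
      have hM := mvFree_shortExact iC jC pa pb w
        (Set.eq_univ_of_forall fun z => (hab z.2).imp (fun h => ⟨⟨z.1, z.2, h⟩, Subtype.ext (hva _)⟩)
          fun h => ⟨⟨z.1, z.2, h⟩, Subtype.ext (hvb _)⟩)
        (by
          rintro _ ⟨⟨x, rfl⟩, y, hy⟩
          refine absurd ?_ ((Set.eq_empty_iff_forall_notMem.1 hd) x.1)
          have e : y.1 = x.1 := (hvb y).symm.trans ((congrArg Subtype.val hy).trans (hva x))
          exact ⟨x.2.1, x.2.2, e ▸ y.2.2⟩)
      refine subsingleton_of_forall_eq 0 fun y => ?_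
      have h1 : (Ext.mk₀ (mvFree iC jC pa pb w).g).comp y (zero_add i) = 0 := by
        let z : Ext.{u + 1} (free (P Ua) ⊞ free (P Ub)) (EtCoh.const X ℚ) i :=
          (Ext.mk₀ (mvFree iC jC pa pb w).g).comp y (zero_add i)
        show z = 0
        rw [← Ext.mk₀_id_comp z, ← biprod.total, Ext.mk₀_add, Ext.add_comp, ← Ext.mk₀_comp_mk₀, ← Ext.mk₀_comp_mk₀,
          Ext.comp_assoc_of_second_deg_zero, Ext.comp_assoc_of_second_deg_zero,
          Subsingleton.elim (α := Ext.{u + 1} (free (P Ua)) (EtCoh.const X ℚ) i)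
            ((Ext.mk₀ biprod.inl).comp z (zero_add i)) 0,
          Subsingleton.elim (α := Ext.{u + 1} (free (P Ub)) (EtCoh.const X ℚ) i)
            ((Ext.mk₀ biprod.inr).comp z (zero_add i)) 0, Ext.comp_zero, Ext.comp_zero, add_zero]
      obtain ⟨n, rfl⟩ : ∃ n, i = 1 + n := ⟨i - 1, by omega⟩
      obtain ⟨z, rfl⟩ := Ext.contravariant_sequence_exact₃ hM _ y h1 rfl
      haveI := hCe
      have h0 : 𝟙 (free (P (Ua ⊓ Ub))) = 0 := (isZero_free_of_isEmpty _).eq_of_src _ _
      have hz : z = 0 := by rw [← Ext.mk₀_id_comp z]; erw [h0]; rw [Ext.mk₀_zero, Ext.zero_comp]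
      rw [hz, Ext.comp_zero]
  haveI hs := hclopen ⊤ isOpen_univ
  obtain ⟨σ, hσ⟩ := exists_section_toConst X
  let top : X.Opens := ⟨Set.univ, isOpen_univ⟩
  let r : EtCoh.top X ⟶ P top := MorphismProperty.Over.homMk X.topIso.inv (X.topIso.inv_hom_id)
  refine subsingleton_of_forall_eq 0 fun x => ?_
  rw [← Ext.mk₀_id_comp x, ← hσ, ← freeMap_toConst r, ← Category.assoc, ← Ext.mk₀_comp_mk₀,
    Ext.comp_assoc_of_second_deg_zero,
    Subsingleton.elim (α := Ext.{u + 1} (free (P top)) (EtCoh.const X ℚ) i)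
      ((Ext.mk₀ (toConst (P top))).comp x (zero_add i)) 0, Ext.comp_zero]

end

end EtRatLib
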